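import Cfsg.Agent.AltSection.Engine

/-!
# Certificates that vectors fixed by small subgroups vanish
-/

namespace Cfsg.Lib.AltSection

/-- The code of the identity. -/
def idC (n : ℕ) : ℕ := codeF n fun i => i

theorem codeA_one {n : ℕ} : codeA (1 : alternatingGroup (Fin n)) = idC n := by
  refine codeF_congr _ _ _ fun i hi => ?_
  rw [dif_pos hi]
  rfl

/-- A translation term: coefficient, index of the translating element, index of the base vector,
witnesses. -/
abbrev Term := ℕ × ℕ × ℕ × List (ℕ × ℕ)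

/-- The vector of a list of terms. -/
def combV (bases : List Vec) : List Term → Vec
  | [] => []
  | (c, _, b, ws) :: ts => scaleV c (imgV (bases.getD b []) ws) ++ combV bases ts

/-- Check of the witnesses of a list of terms. -/
def Tab.okTerms (T : Tab) (elts : Tab) (bases : List Vec) (ts : List Term) : Bool :=
  ts.all fun t => decide (t.2.1 < elts.N) && decide (t.2.2.1 < bases.length) &&
    T.okImg (elts.rep t.2.1) (bases.getD t.2.2.1 []) t.2.2.2

/-- A vector claimed to be fixed by the seed with index `sd` modulo combinations `ca`, `cb`. -/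
structure Fixd where
  sd : ℕ
  v : Vec
  wa : List (ℕ × ℕ)
  wb : List (ℕ × ℕ)
  ca : List Term
  cb : List Term

/-- Check of a fixedness certificate. -/
def Tab.okFixd (T : Tab) (p : ℕ) (seeds : List (ℕ × ℕ)) (elts : Tab) (bases : List Vec) (F : Fixd) : Bool :=
  decide (F.sd < seeds.length) && T.okImg (seeds.getD F.sd (0, 0)).1 F.v F.wa &&
    T.okImg (seeds.getD F.sd (0, 0)).2 F.v F.wb && T.okTerms elts bases F.ca &&
    T.okTerms elts bases F.cb && T.okZero p (imgV F.v F.wa ++ combV bases F.ca ++ scaleV (p - 1) F.v) &&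
    T.okZero p (imgV F.v F.wb ++ combV bases F.cb ++ scaleV (p - 1) F.v)

variable {W : Type*} [AddCommGroup W] {T : Tab} {p : ℕ}
  {ρ : alternatingGroup (Fin T.n) →* AddMonoid.End W} {w : W}

theorem Good.val_comb (G : Good T p ρ w) {elts : Tab} {bases : List Vec}
    (he : ∀ k, k < elts.N → Mem T.n (elts.rep k))
    (hb : ∀ v ∈ bases, val T ρ w v = 0) (ts : List Term) (h : T.okTerms elts bases ts = true) :
    val T ρ w (combV bases ts) = 0 := by
  induction ts with
  | nil => rfl
  | cons t ts ih =>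
    obtain ⟨c, g, b, ws⟩ := t
    simp only [Tab.okTerms, List.all_cons, Bool.and_eq_true, decide_eq_true_eq] at h
    obtain ⟨⟨⟨h1, h2⟩, h3⟩, h4⟩ := h
    have hv : val T ρ w (bases.getD b []) = 0 := by
      rw [List.getD_eq_getElem bases [] h2]
      exact hb _ (List.getElem_mem h2)
    rw [combV, val_append, val_scale, ← G.act_val (he g h1) _ ws h3, hv, map_zero, nsmul_zero, ih h4,
      add_zero]

/-- Vectors fixed by a seed vanish. -/
def SeedsKill {n : ℕ} (ρ : alternatingGroup (Fin n) →* AddMonoid.End W) (seeds : List (ℕ × ℕ)) : Prop :=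
  ∀ k, k < seeds.length → Mem n (seeds.getD k (0, 0)).1 ∧ Mem n (seeds.getD k (0, 0)).2 ∧
    ∀ x : W, act ρ (seeds.getD k (0, 0)).1 x = x → act ρ (seeds.getD k (0, 0)).2 x = x → x = 0

theorem Good.val_fixd (G : Good T p ρ w) (hp : 1 ≤ p) {seeds : List (ℕ × ℕ)} (hs : SeedsKill ρ seeds)
    {elts : Tab} {bases : List Vec} (he : ∀ k, k < elts.N → Mem T.n (elts.rep k))
    (hb : ∀ v ∈ bases, val T ρ w v = 0) (F : Fixd) (h : T.okFixd p seeds elts bases F = true) :
    val T ρ w F.v = 0 := by
  simp only [Tab.okFixd, Bool.and_eq_true, decide_eq_true_eq] at h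
  obtain ⟨⟨⟨⟨⟨⟨h1, h2⟩, h3⟩, h4⟩, h5⟩, h6⟩, h7⟩ := h
  obtain ⟨m1, m2, hk⟩ := hs F.sd h1
  have key : ∀ (g : ℕ) (ws : List (ℕ × ℕ)) (ts : List Term), Mem T.n g → T.okImg g F.v ws = true →
      T.okTerms elts bases ts = true →
      T.okZero p (imgV F.v ws ++ combV bases ts ++ scaleV (p - 1) F.v) = true →
      act ρ g (val T ρ w F.v) = val T ρ w F.v := by
    intro g ws ts hg hi ht hz
    have := G.val_congr (k := p - 1) (by omega) _ _ hz
    rwa [val_append, G.val_comb he hb ts ht, add_zero, ← G.act_val hg _ ws hi] at this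
  exact hk _ (key _ _ _ m1 h2 h4 h6) (key _ _ _ m2 h3 h5 h7)

theorem Good.val_fixd_all (G : Good T p ρ w) (hp : 1 ≤ p) {seeds : List (ℕ × ℕ)} (hs : SeedsKill ρ seeds)
    {elts : Tab} {bases : List Vec} (he : ∀ k, k < elts.N → Mem T.n (elts.rep k))
    (hb : ∀ v ∈ bases, val T ρ w v = 0) (Fs : List Fixd)
    (h : Fs.all (T.okFixd p seeds elts bases) = true) :
    ∀ v ∈ bases ++ Fs.map Fixd.v, val T ρ w v = 0 := by
  intro v hv
  rcases List.mem_append.1 hv with hv | hv
  · exact hb v hv
  · obtain ⟨F, hF, rfl⟩ := List.mem_map.1 hv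
    exact G.val_fixd hp hs he hb F (List.all_eq_true.1 h F hF)

theorem Tab.okTerms_append (T : Tab) (elts : Tab) (bases : List Vec) (s t : List Term) :
    T.okTerms elts bases (s ++ t) = (T.okTerms elts bases s && T.okTerms elts bases t) :=
  List.all_append

/-- If the base vector is minus a vanishing combination, it vanishes. -/
theorem Good.eq_zero_of_sum (G : Good T p ρ w) {v : Vec} (hv : val T ρ w v = 0)
    (hr : T.rep 0 = idC T.n) (h : T.okZero p ([(0, 1)] ++ v) = true) : w = 0 := by
  have h0 := G.val_eq_zero _ h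
  rw [val_append, hv, add_zero, val_cons, val_nil, add_zero, one_nsmul, hr, ← codeA_one,
    act_codeA G.hn, map_one] at h0
  exact h0

end Cfsg.Lib.AltSection
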