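import Mathlib

/-!
# Certificates for vectors in modules of alternating groups

Permutations of `Fin n` (`n ≤ 16`) are coded by natural numbers in base 16, a vector of a module is a list of
pairs (coset index, coefficient), and linear identities are checked by adding packed natural numbers.
-/

namespace Cfsg.Lib.AltSection

/-- The `i`-th nibble. -/
def dig (x i : ℕ) : ℕ := x / 16 ^ i % 16

/-- Pack `f 0, …, f (n-1)` in base 16. -/
def codeF : ℕ → (ℕ → ℕ) → ℕ
  | 0, _ => 0
  | k + 1, f => f 0 + 16 * codeF k (fun i => f (i + 1))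

theorem dig_codeF : ∀ (n : ℕ) (f : ℕ → ℕ), (∀ i, i < n → f i < 16) → ∀ i, i < n → dig (codeF n f) i = f i := by
  intro n
  induction n with
  | zero => intro f _ i hi; omega
  | succ k ih =>
    intro f hf i hi
    cases i with
    | zero =>
      simp only [dig, codeF, pow_zero, Nat.div_one]
      have := hf 0 (by omega)
      omega
    | succ j =>
      have h0 := hf 0 (by omega)
      have hj := ih (fun i => f (i + 1)) (fun i hi => hf (i + 1) (by omega)) j (by omega)
      simp only [dig] at hj ⊢
      rw [codeF, pow_succ', ← Nat.div_div_eq_div_mul,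
        show (f 0 + 16 * codeF k fun i => f (i + 1)) / 16 = codeF k (fun i => f (i + 1)) from by omega]
      exact hj

theorem codeF_congr : ∀ (n : ℕ) (f g : ℕ → ℕ), (∀ i, i < n → f i = g i) → codeF n f = codeF n g := by
  intro n
  induction n with
  | zero => intros; rfl
  | succ k ih =>
    intro f g h
    simp only [codeF]
    rw [h 0 (by omega), ih _ _ (fun i hi => h (i + 1) (by omega))]

/-- Product of two coded permutations. -/
def mulC (n a b : ℕ) : ℕ := codeF n (fun i => dig a (dig b i))

/-- The code of a permutation. -/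
def code {n : ℕ} (σ : Equiv.Perm (Fin n)) : ℕ :=
  codeF n (fun i => if h : i < n then (σ ⟨i, h⟩).val else 0)

theorem dig_code {n : ℕ} (hn : n ≤ 16) (σ : Equiv.Perm (Fin n)) (i : Fin n) :
    dig (code σ) i.val = (σ i).val := by
  have hb : ∀ j, j < n → (if h : j < n then (σ ⟨j, h⟩).val else 0) < 16 := by
    intro j hj
    rw [dif_pos hj]
    exact lt_of_lt_of_le (σ ⟨j, hj⟩).isLt hn
  rw [code, dig_codeF n _ hb i.val i.isLt, dif_pos i.isLt]

theorem code_inj {n : ℕ} (hn : n ≤ 16) {σ τ : Equiv.Perm (Fin n)} (h : code σ = code τ) : σ = τ := by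
  apply Equiv.ext; intro i; apply Fin.ext
  rw [← dig_code hn σ i, ← dig_code hn τ i, h]

theorem code_mul {n : ℕ} (hn : n ≤ 16) (σ τ : Equiv.Perm (Fin n)) :
    code (σ * τ) = mulC n (code σ) (code τ) := by
  refine codeF_congr n _ _ fun i hi => ?_
  rw [dif_pos hi, dig_code hn τ ⟨i, hi⟩, dig_code hn σ]
  rfl

/-- The code of an element of the alternating group. -/
def codeA {n : ℕ} (x : alternatingGroup (Fin n)) : ℕ := code (x : Equiv.Perm (Fin n))

theorem codeA_inj {n : ℕ} (hn : n ≤ 16) {x y : alternatingGroup (Fin n)} (h : codeA x = codeA y) : x = y :=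
  Subtype.ext (code_inj hn h)

theorem codeA_mul {n : ℕ} (hn : n ≤ 16) (x y : alternatingGroup (Fin n)) :
    codeA (x * y) = mulC n (codeA x) (codeA y) := code_mul hn _ _

/-- Coded elements of the alternating group. -/
def Mem (n x : ℕ) : Prop := ∃ g : alternatingGroup (Fin n), codeA g = x

theorem Mem.mul {n : ℕ} (hn : n ≤ 16) {a b : ℕ} (ha : Mem n a) (hb : Mem n b) : Mem n (mulC n a b) := by
  obtain ⟨x, rfl⟩ := ha
  obtain ⟨y, rfl⟩ := hb
  exact ⟨x * y, codeA_mul hn x y⟩

end Cfsg.Lib.AltSection
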