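import Cfsg.Agent.AltSection.Code

/-!
# Soundness of coset-vector certificates
-/

namespace Cfsg.Lib.AltSection

/-- Binary tables indexed by natural numbers. -/
inductive BT
  | leaf (v : ℕ)
  | node (l r : BT)

/-- Lookup in a table, reading the index from its top bit. -/
def BT.get : BT → ℕ → ℕ → ℕ
  | .leaf v, _, _ => v
  | .node l r, d, i => if i / 2 ^ (d - 1) % 2 = 0 then l.get (d - 1) i else r.get (d - 1) i

/-- Coset table: representatives, and the elements of the subgroup fixing the base vector. -/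
structure Tab where
  n : ℕ
  N : ℕ
  depth : ℕ
  reps : BT
  hs : List ℕ

/-- The representative with a given index. -/
def Tab.rep (T : Tab) (i : ℕ) : ℕ := T.reps.get T.depth i

/-- Check of the representatives, each obtained from an earlier one by left multiplication with a
listed element; `par` packs generator index and parent. -/
def Tab.okReps (T : Tab) (gens : List ℕ) (par : BT) : Bool :=
  (T.rep 0 == codeF T.n (fun i => i)) &&
  (List.range (T.N - 1)).all fun k =>
    let q := par.get T.depth (k + 1)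
    decide (q / 256 < k + 1) && decide (q % 256 < gens.length) &&
      (T.rep (k + 1) == mulC T.n (gens.getD (q % 256) 0) (T.rep (q / 256)))

/-- A sparse vector: pairs of coset index and coefficient. -/
abbrev Vec := List (ℕ × ℕ)

/-- Image of a vector under `g`, read off witnesses `(j, h)`. -/
def imgV (v : Vec) (wit : List (ℕ × ℕ)) : Vec := List.zipWith (fun e w => (w.1, e.2)) v wit

/-- Check of the witnesses of an image. -/
def Tab.okImg (T : Tab) (g : ℕ) : Vec → List (ℕ × ℕ) → Bool
  | [], [] => true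
  | e :: v, w :: ws =>
    decide (e.1 < T.N) && decide (w.1 < T.N) && decide (w.2 < T.hs.length) &&
      (mulC T.n g (T.rep e.1) == mulC T.n (T.rep w.1) (T.hs.getD w.2 0)) && T.okImg g v ws
  | _, _ => false

/-- Scale a vector. -/
def scaleV (k : ℕ) (v : Vec) : Vec := v.map fun e => (e.1, k * e.2)

/-- Packing of a vector. -/
def accV : Vec → ℕ
  | [] => 0
  | e :: v => (e.2 <<< (20 * e.1)) + accV v

/-- Total weight of a vector. -/
def wgtV : Vec → ℕ
  | [] => 0
  | e :: v => e.2 + wgtV v

/-- Test that a vector vanishes modulo `p`. -/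
def Tab.okZero (T : Tab) (p : ℕ) (v : Vec) : Bool :=
  (v.all fun e => decide (e.1 < T.N)) && decide (wgtV v < 2 ^ 20) &&
    (let a := accV v
     (List.range T.N).all fun j => decide ((a >>> (20 * j)) % 2 ^ 20 % p = 0))

variable {W : Type*} [AddCommGroup W] {n : ℕ}

open Classical in
/-- Action of a coded element. -/
noncomputable def act (ρ : alternatingGroup (Fin n) →* AddMonoid.End W) (x : ℕ) : AddMonoid.End W :=
  if h : Mem n x then ρ h.choose else 0

theorem act_codeA (hn : n ≤ 16) (ρ : alternatingGroup (Fin n) →* AddMonoid.End W)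
    (g : alternatingGroup (Fin n)) : act ρ (codeA g) = ρ g := by
  have h : Mem n (codeA g) := ⟨g, rfl⟩
  rw [act, dif_pos h, codeA_inj hn h.choose_spec]

theorem act_mulC (hn : n ≤ 16) (ρ : alternatingGroup (Fin n) →* AddMonoid.End W) {a b : ℕ}
    (ha : Mem n a) (hb : Mem n b) (w : W) : act ρ (mulC n a b) w = act ρ a (act ρ b w) := by
  obtain ⟨x, rfl⟩ := ha
  obtain ⟨y, rfl⟩ := hb
  rw [← codeA_mul hn, act_codeA hn, act_codeA hn, act_codeA hn, map_mul]
  rfl

/-- A certified coset table for a vector `w`. -/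
structure Good (T : Tab) (p : ℕ) (ρ : alternatingGroup (Fin T.n) →* AddMonoid.End W) (w : W) : Prop where
  hn : T.n ≤ 16
  reps : ∀ i, i < T.N → Mem T.n (T.rep i)
  mem : ∀ k, k < T.hs.length → Mem T.n (T.hs.getD k 0)
  fix : ∀ k, k < T.hs.length → act ρ (T.hs.getD k 0) w = w
  char : ∀ x : W, p • x = 0

theorem Tab.reps_induction {T : Tab} {P : ℕ → Prop} (h1 : P (codeF T.n fun i => i))
    (hmul : ∀ a b, P a → P b → P (mulC T.n a b)) {gens : List ℕ} {par : BT}
    (hg : ∀ x ∈ gens, P x) (h : T.okReps gens par = true) : ∀ i, i < T.N → P (T.rep i) := by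
  simp only [Tab.okReps, Bool.and_eq_true, List.all_eq_true, beq_iff_eq, decide_eq_true_eq,
    List.mem_range] at h
  intro i
  induction i using Nat.strong_induction_on with
  | _ i ih =>
    intro hi
    cases i with
    | zero => rw [h.1]; exact h1
    | succ k =>
      obtain ⟨⟨hp, hq⟩, he⟩ := h.2 k (by omega)
      rw [he]
      refine hmul _ _ (hg _ ?_) (ih _ hp (by omega))
      rw [List.getD_eq_getElem gens 0 hq]
      exact List.getElem_mem hq

theorem Tab.mem_reps {T : Tab} (hn : T.n ≤ 16) {gens : List ℕ} {par : BT}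
    (hg : ∀ x ∈ gens, Mem T.n x) (h : T.okReps gens par = true) : ∀ i, i < T.N → Mem T.n (T.rep i) :=
  T.reps_induction ⟨1, codeF_congr _ _ _ fun j hj => by rw [dif_pos hj]; rfl⟩
    (fun _ _ ha hb => ha.mul hn hb) hg h

/-- The vector of `W` named by a sparse vector. -/
noncomputable def val (T : Tab) (ρ : alternatingGroup (Fin T.n) →* AddMonoid.End W) (w : W) : Vec → W
  | [] => 0
  | e :: v => e.2 • act ρ (T.rep e.1) w + val T ρ w v

variable {T : Tab} {p : ℕ} {ρ : alternatingGroup (Fin T.n) →* AddMonoid.End W} {w : W}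

@[simp] theorem val_nil : val T ρ w [] = 0 := rfl

theorem val_cons (e : ℕ × ℕ) (v : Vec) :
    val T ρ w (e :: v) = e.2 • act ρ (T.rep e.1) w + val T ρ w v := rfl

theorem val_append (u v : Vec) : val T ρ w (u ++ v) = val T ρ w u + val T ρ w v := by
  induction u with
  | nil => simp
  | cons e u ih => rw [List.cons_append, val_cons, val_cons, ih, add_assoc]

theorem val_scale (k : ℕ) (v : Vec) : val T ρ w (scaleV k v) = k • val T ρ w v := by
  induction v with
  | nil => simp [scaleV]
  | cons e v ih =>
    rw [scaleV, List.map_cons, val_cons, ← scaleV, ih, val_cons, nsmul_add, ← mul_nsmul']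

theorem Good.act_val (G : Good T p ρ w) {g : ℕ} (hg : Mem T.n g) :
    ∀ (v : Vec) (ws : List (ℕ × ℕ)), T.okImg g v ws = true →
      act ρ g (val T ρ w v) = val T ρ w (imgV v ws) := by
  intro v
  induction v with
  | nil => intro ws _; simp [imgV]
  | cons e v ih =>
    intro ws h
    cases ws with
    | nil => simp [Tab.okImg] at h
    | cons a ws =>
      simp only [Tab.okImg, Bool.and_eq_true, decide_eq_true_eq, beq_iff_eq] at h
      obtain ⟨⟨⟨⟨h1, h2⟩, h3⟩, h4⟩, h5⟩ := h
      rw [imgV, List.zipWith_cons_cons, val_cons, val_cons, map_add, map_nsmul, ← imgV, ih ws h5,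
        ← act_mulC G.hn ρ hg (G.reps _ h1), h4, act_mulC G.hn ρ (G.reps _ h2) (G.mem _ h3), G.fix _ h3]

/-- The coefficient sum at one index. -/
def coef (v : Vec) (j : ℕ) : ℕ := (v.map fun e => if e.1 = j then e.2 else 0).sum

theorem coef_cons (e : ℕ × ℕ) (v : Vec) (j : ℕ) :
    coef (e :: v) j = (if e.1 = j then e.2 else 0) + coef v j := rfl

theorem accV_eq (N : ℕ) (v : Vec) (h : ∀ e ∈ v, e.1 < N) :
    accV v = ∑ j ∈ Finset.range N, coef v j * (2 ^ 20) ^ j := by
  induction v with
  | nil => simp [accV, coef]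
  | cons e v ih =>
    have he := h e (by simp)
    rw [accV, ih fun x hx => h x (by simp [hx]), Nat.shiftLeft_eq, pow_mul]
    simp only [coef_cons, add_mul, Finset.sum_add_distrib, ite_mul, zero_mul]
    rw [Finset.sum_ite_eq, if_pos (Finset.mem_range.2 he)]

theorem val_eq (N : ℕ) (v : Vec) (h : ∀ e ∈ v, e.1 < N) :
    val T ρ w v = ∑ j ∈ Finset.range N, coef v j • act ρ (T.rep j) w := by
  induction v with
  | nil => simp [coef]
  | cons e v ih =>
    have he := h e (by simp)
    rw [val_cons, ih fun x hx => h x (by simp [hx])]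
    simp only [coef_cons, add_smul, Finset.sum_add_distrib, ite_smul, zero_smul]
    rw [Finset.sum_ite_eq, if_pos (Finset.mem_range.2 he)]

theorem digit_sum {B : ℕ} (hB : 0 < B) : ∀ (N : ℕ) (c : ℕ → ℕ), (∀ j, c j < B) → ∀ i, i < N →
    (∑ j ∈ Finset.range N, c j * B ^ j) / B ^ i % B = c i := by
  intro N
  induction N with
  | zero => intro c _ i hi; omega
  | succ N ih =>
    intro c hc i hi
    have hs : (∑ j ∈ Finset.range (N + 1), c j * B ^ j) =
        c 0 + B * ∑ j ∈ Finset.range N, c (j + 1) * B ^ j := by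
      rw [Finset.sum_range_succ', Finset.mul_sum, pow_zero, mul_one, add_comm]
      congr 1
      refine Finset.sum_congr rfl fun j _ => ?_
      rw [pow_succ]; ring
    rw [hs]
    cases i with
    | zero => rw [pow_zero, Nat.div_one, Nat.add_mul_mod_self_left, Nat.mod_eq_of_lt (hc 0)]
    | succ i =>
      rw [pow_succ', ← Nat.div_div_eq_div_mul, Nat.add_mul_div_left _ _ hB,
        Nat.div_eq_of_lt (hc 0), zero_add]
      exact ih (fun j => c (j + 1)) (fun j => hc _) i (by omega)

theorem coef_le_wgt (v : Vec) (j : ℕ) : coef v j ≤ wgtV v := by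
  induction v with
  | nil => simp [coef]
  | cons e v ih =>
    rw [coef_cons, wgtV]
    split_ifs <;> omega

theorem Good.val_eq_zero (G : Good T p ρ w) (v : Vec) (h : T.okZero p v = true) : val T ρ w v = 0 := by
  simp only [Tab.okZero, Bool.and_eq_true, List.all_eq_true, decide_eq_true_eq, List.mem_range] at h
  obtain ⟨⟨hb, hw⟩, hd⟩ := h
  rw [val_eq T.N v hb]
  refine Finset.sum_eq_zero fun j hj => ?_
  have hj' := Finset.mem_range.1 hj
  have h1 := hd j hj'
  rw [Nat.shiftRight_eq_div_pow, pow_mul, accV_eq T.N v hb,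
    digit_sum (by positivity) T.N (coef v) (fun k => lt_of_le_of_lt (coef_le_wgt v k) hw) j hj'] at h1
  obtain ⟨k, hk⟩ := Nat.dvd_of_mod_eq_zero h1
  rw [hk, mul_nsmul', G.char]

/-- A vector congruent to `v` modulo a vanishing one. -/
theorem Good.val_congr (G : Good T p ρ w) {k : ℕ} (hk : k + 1 = p) (u v : Vec)
    (h : T.okZero p (u ++ scaleV k v) = true) : val T ρ w u = val T ρ w v := by
  have h1 := G.val_eq_zero _ h
  rw [val_append, val_scale] at h1
  have h2 : k • val T ρ w v + val T ρ w v = 0 := by rw [← succ_nsmul, hk]; exact G.char _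
  rw [add_comm] at h1
  exact add_left_cancel (h1.trans h2.symm)

end Cfsg.Lib.AltSection
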