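import Cfsg.Agent.AltSection.Module

/-!
# The three-cycles `(0 1 i)` as coded elements
-/

namespace Cfsg.Lib.AltSection

/-- A product of two transpositions, as an element of the alternating group. -/
def cyc3 (n : ℕ) (a b c : Fin n) (h1 : a ≠ b) (h2 : b ≠ c) : alternatingGroup (Fin n) :=
  ⟨Equiv.swap a b * Equiv.swap b c, by
    rw [Equiv.Perm.mem_alternatingGroup, map_mul, Equiv.Perm.sign_swap h1, Equiv.Perm.sign_swap h2]; rfl⟩

/-- The codes of the three-cycles `(0 1 i)`. -/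
def g3Codes (n : ℕ) (z o : Fin n) : List ℕ :=
  ((List.finRange n).filter fun i => decide (z ≠ i ∧ o ≠ i)).map fun i =>
    code (Equiv.swap z o * Equiv.swap o i)

theorem mem_g3 (n : ℕ) (z o : Fin n) (hzo : z ≠ o) {gens : List ℕ}
    (h : (gens.all fun x => (g3Codes n z o).contains x) = true) : ∀ x ∈ gens, Mem n x := by
  intro x hx
  have h1 := List.all_eq_true.1 h x hx
  rw [List.contains_iff_mem] at h1
  simp only [g3Codes, List.mem_map, List.mem_filter, decide_eq_true_eq] at h1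
  obtain ⟨i, ⟨_, _, hi⟩, rfl⟩ := h1
  exact ⟨cyc3 n z o i hzo hi, rfl⟩

theorem mem_of_tab {n : ℕ} {T : Tab} (hT : T.n = n) (hn : n ≤ 16) {gens : List ℕ} {par : BT}
    (hg : ∀ x ∈ gens, Mem n x) (h : T.okReps gens par = true) : ∀ i, i < T.N → Mem n (T.rep i) := by
  subst hT
  exact T.mem_reps hn hg h

/-- Seeds given by indices in a table. -/
theorem mem_seeds {n : ℕ} {T : Tab} (hm : ∀ i, i < T.N → Mem n (T.rep i)) (ix : List (ℕ × ℕ))
    (h : (ix.all fun s => decide (s.1 < T.N) && decide (s.2 < T.N)) = true) :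
    ∀ s ∈ ix.map (fun s => (T.rep s.1, T.rep s.2)), Mem n s.1 ∧ Mem n s.2 := by
  intro s hs
  obtain ⟨t, ht, rfl⟩ := List.mem_map.1 hs
  have h1 := List.all_eq_true.1 h t ht
  simp only [Bool.and_eq_true, decide_eq_true_eq] at h1
  exact ⟨hm _ h1.1, hm _ h1.2⟩

end Cfsg.Lib.AltSection
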