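import Cfsg.Agent.Coprime.Action
import Mathlib

/-!
# Lifting elements of prime order with nonsolvable centralisers
-/

namespace Cfsg.Lib.AltSection

open Subgroup

/-- The centralisers of nontrivial `p`-elements are solvable. -/
def Good' (p : ℕ) (L : Type*) [Group L] : Prop :=
  ∀ x : L, x ≠ 1 → (∃ k : ℕ, orderOf x = p ^ k) → Group.IsSolvable (centralizer ({x} : Set L))

theorem isSolvable_of_le {L : Type*} [Group L] {A B : Subgroup L} (h : A ≤ B)
    (hB : Group.IsSolvable B) : Group.IsSolvable A :=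
  haveI := hB
  Group.isSolvable_of_isSolvable_injective (f := inclusion h) (inclusion_injective h)

theorem isSolvable_map {L Q : Type*} [Group L] [Group Q] (π : L →* Q) {A : Subgroup L}
    (hA : Group.IsSolvable A) : Group.IsSolvable (A.map π) :=
  haveI := hA
  Group.isSolvable_of_surjective (π.subgroupMap_surjective A)

/-- If a central element of order `p` has a nonsolvable complement and the kernel or the complement has
order prime to `p`, some nontrivial `p`-element upstairs has a nonsolvable centraliser. -/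
theorem not_good_of_central {L Q : Type*} [Group L] [Finite L] [Group Q] [Finite Q] (p : ℕ) [hpf : Fact p.Prime]
    (hL : Good' p L) (π : L →* Q) (hπ : Function.Surjective π) (t : Q) (ht : orderOf t = p)
    (htc : t ∈ center Q) (S : Subgroup Q) (hS : ¬ Group.IsSolvable S) (hST : S ⊔ zpowers t = ⊤)
    (h : ¬ p ∣ Nat.card π.ker ∨ ¬ p ∣ Nat.card S) : False := by
  classical
  have hp := hpf.out
  set T : Subgroup Q := zpowers t with hT
  haveI : T.Normal := ⟨fun x hx g => by
    have hxc : x ∈ center Q := (Subgroup.zpowers_le.2 htc) hx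
    rw [mem_center_iff.1 hxc g, mul_inv_cancel_right]; exact hx⟩
  set Y : Subgroup L := T.comap π with hY
  haveI : Y.Normal := Subgroup.Normal.comap inferInstance π
  obtain ⟨P₁⟩ : Nonempty (Sylow p Y) := inferInstance
  set P : Subgroup L := (P₁ : Subgroup Y).map Y.subtype with hPdef
  have hPY : P ≤ Y := map_subtype_le _
  have hPp : IsPGroup p P := P₁.2.map _
  set H : Subgroup L := normalizer (P : Set L) with hH
  have hHY : H ⊔ Y = ⊤ := Sylow.normalizer_sup_eq_top P₁
  have hPH : P ≤ H := le_normalizer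
  -- an element of `P` over `T`
  obtain ⟨k, hk, hk1⟩ : ∃ k ∈ P, π k ≠ 1 := by
    by_contra hcon
    push Not at hcon
    have hle : P ≤ π.ker := fun x hx => hcon x hx
    have hcard : Nat.card Y = Nat.card π.ker * p := by
      have h1 := Subgroup.card_mul_index (π.ker.subgroupOf Y)
      have hkY : π.ker ≤ Y := fun x hx => by
        show π x ∈ T
        rw [MonoidHom.mem_ker.1 hx]; exact one_mem _
      rw [Nat.card_congr (subgroupOfEquivOfLe hkY).toEquiv] at h1
      rw [← h1]
      congr 1
      have h2 : (⊥ : Subgroup Q).relIndex T = p := by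
        rw [relIndex_bot_left, Nat.card_zpowers, ht]
      rw [← h2, ← map_comap_eq_self_of_surjective hπ T, ← relIndex_comap]
      rfl
    have h3 : Nat.card P = p ^ (Nat.card Y).factorization p := by
      rw [hPdef, card_map_of_injective Y.subtype_injective]
      exact P₁.card_eq_multiplicity
    have h4 : p ^ (Nat.card Y).factorization p ∣ Nat.card π.ker := h3 ▸ card_dvd_of_le hle
    have h5 := (hp.pow_dvd_iff_le_factorization Nat.card_pos.ne').1 h4
    rw [hcard, Nat.factorization_mul Nat.card_pos.ne' hp.ne_zero, Finsupp.add_apply,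
      hp.factorization_self] at h5
    omega
  have hkT : π k ∈ T := hPY hk
  have hTk : zpowers (π k) = T := by
    refine SetLike.coe_injective (Set.eq_of_subset_of_ncard_le (zpowers_le.2 hkT) ?_ (Set.toFinite _))
    rw [← Nat.card_coe_set_eq, ← Nat.card_coe_set_eq]
    show Nat.card T ≤ Nat.card (zpowers (π k))
    have hd : orderOf (π k) ∣ p := by
      have h1 : Nat.card T = p := by rw [hT, Nat.card_zpowers, ht]
      exact h1 ▸ Subgroup.orderOf_dvd_natCard T hkT
    rcases (Nat.dvd_prime hp).1 hd with h1 | h1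
    · exact absurd (orderOf_eq_one_iff.1 h1) hk1
    · rw [hT, Nat.card_zpowers, Nat.card_zpowers, ht, h1]
  have hkc : π k ∈ center Q := (Subgroup.zpowers_le.2 htc) hkT
  have hHtop : H.map π = ⊤ := by
    rw [eq_top_iff, ← map_top_of_surjective π hπ, ← hHY, Subgroup.map_sup, sup_le_iff]
    refine ⟨le_rfl, ?_⟩
    rw [hY, map_comap_eq_self_of_surjective hπ, ← hTk, zpowers_le]
    exact mem_map_of_mem π (hPH hk)
  have hne : ∀ x : L, π x ≠ 1 → x ≠ 1 := fun x hx hx1 => hx (by rw [hx1, map_one])
  have hord : ∀ x ∈ P, ∃ j : ℕ, orderOf x = p ^ j := fun x hx => by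
    obtain ⟨j, hj⟩ := IsPGroup.iff_orderOf.1 hPp ⟨x, hx⟩
    exact ⟨j, by rw [← hj, Subgroup.orderOf_mk]⟩
  have hbot : ∀ A : Subgroup L, A ≤ centralizer ({k} : Set L) → S ≤ A.map π → False :=
    fun A hA hSA => hS (isSolvable_of_le hSA (isSolvable_map π (isSolvable_of_le hA
      (hL k (hne k hk1) (hord k hk)))))
  by_cases hN : p ∣ Nat.card π.ker
  swap
  · refine hbot H (fun x hx => ?_) (hHtop ▸ le_top)
    rw [mem_centralizer_singleton_iff]
    have h1 : x * k * x⁻¹ * k⁻¹ ∈ P := mul_mem ((mem_normalizer_iff.1 hx k).1 hk) (inv_mem hk)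
    have h2 : x * k * x⁻¹ * k⁻¹ ∈ π.ker := by
      rw [MonoidHom.mem_ker, map_mul, map_mul, map_mul, map_inv, map_inv, mem_center_iff.1 hkc (π x),
        mul_inv_cancel_right, mul_inv_cancel]
    have h3 : Nat.card ↥(P ⊓ π.ker) = 1 := by
      obtain ⟨j, hj⟩ := (hPp.to_le inf_le_left : IsPGroup p ↥(P ⊓ π.ker)).exists_card_eq
      rw [hj]
      rcases Nat.eq_zero_or_pos j with rfl | hj0
      · rfl
      · exact absurd ((dvd_pow_self p hj0.ne').trans (hj ▸ card_dvd_of_le inf_le_right)) hN
    have h4 : x * k * x⁻¹ * k⁻¹ = 1 := by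
      have := (eq_bot_of_card_eq _ h3 : P ⊓ π.ker = ⊥)
      exact mem_bot.1 (this ▸ mem_inf.2 ⟨h1, h2⟩)
    calc x * k = x * k * x⁻¹ * k⁻¹ * (k * x) := by group
      _ = k * x := by rw [h4, one_mul]
  have hpS : ¬ p ∣ Nat.card S := h.resolve_left (not_not_intro hN)
  -- the index of `P` in `H` is prime to `p`
  have hidx : ¬ p ∣ P.relIndex H := by
    rw [← relIndex_mul_relIndex P (Y ⊓ H) H (le_inf hPY hPH) inf_le_right, hp.dvd_mul]
    rintro (h1 | h1)
    · have h2 : P.relIndex (Y ⊓ H) ∣ P.relIndex Y :=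
        Dvd.intro _ (relIndex_mul_relIndex P (Y ⊓ H) Y (le_inf hPY hPH) inf_le_left)
      have h3 : P.relIndex Y = (P₁ : Subgroup Y).index := by
        rw [relIndex, hPdef, subgroupOf, comap_map_eq_self_of_injective Y.subtype_injective]
      exact P₁.not_dvd_index (h3 ▸ h1.trans h2)
    · rw [inf_relIndex_right, hY, relIndex_comap, hHtop, relIndex_top_right,
        ← relIndex_top_right, ← hST, relIndex_sup_right] at h1
      exact hpS (h1.trans (relIndex_dvd_card _ _))
  obtain ⟨A, hAH, hPA, hAc⟩ := Cfsg.Lib.Coprime.exists_complement_in hPH le_rfl (by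
    obtain ⟨j, hj⟩ := hPp.exists_card_eq
    rw [hj]
    exact Nat.Coprime.pow_left j (hp.coprime_iff_not_dvd.2 hidx))
  have hcop : (Nat.card A).Coprime p := by
    rw [hAc, Nat.coprime_comm]
    exact hp.coprime_iff_not_dvd.2 hidx
  have hPT : P.map π ≤ T := (map_mono hPY).trans (map_comap_le π T)
  have hAt : A.map π ⊔ T = ⊤ := by
    rw [eq_top_iff, ← hHtop, ← hPA, Subgroup.map_sup]
    exact sup_le (hPT.trans le_sup_right) le_sup_left
  have hSA : S ≤ A.map π := by
    intro s hs
    have hs' : s ∈ A.map π ⊔ T := hAt ▸ mem_top s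
    obtain ⟨a', ha', u, hu, hau⟩ := Subgroup.mem_sup_of_normal_right.1 hs'
    obtain ⟨a, ha, rfl⟩ := mem_map.1 ha'
    set m := Nat.card A
    have ham : (π a) ^ m = 1 := by
      rw [← map_pow]
      have : a ^ m = 1 := by
        exact orderOf_dvd_iff_pow_eq_one.1 (Subgroup.orderOf_dvd_natCard A ha)
      rw [this, map_one]
    have huc : u ∈ center Q := (Subgroup.zpowers_le.2 htc) hu
    have hum : u ^ m ∈ S ⊓ T := by
      refine mem_inf.2 ⟨?_, pow_mem hu m⟩
      have hc : Commute (π a) u := mem_center_iff.1 huc (π a)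
      have h1 := pow_mem hs m
      rwa [← hau, hc.mul_pow, ham, one_mul] at h1
    have hST' : S ⊓ T = ⊥ := by
      refine inf_eq_bot_of_coprime ?_
      rw [hT, Nat.card_zpowers, ht, Nat.coprime_comm]
      exact hp.coprime_iff_not_dvd.2 hpS
    have hu1 : u = 1 := by
      have h1 : u ^ m = 1 := mem_bot.1 (hST' ▸ hum)
      have h2 : orderOf u ∣ p := by
        have h3 : Nat.card T = p := by rw [hT, Nat.card_zpowers, ht]
        exact h3 ▸ Subgroup.orderOf_dvd_natCard T hu
      exact orderOf_eq_one_iff.1 (Nat.eq_one_of_dvd_one (hcop ▸ Nat.dvd_gcd (orderOf_dvd_of_pow_eq_one h1) h2))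
    rw [← hau, hu1, mul_one]
    exact mem_map_of_mem π ha
  set D : Subgroup L := P ⊓ π.ker
  have hAD : A ≤ normalizer (D : Set L) := fun x hx => by
    rw [mem_normalizer_iff]
    intro y
    simp only [D, mem_inf]
    rw [← (mem_normalizer_iff.1 (hAH hx) y)]
    exact and_congr_right fun _ => ⟨fun hy => MonoidHom.normal_ker π |>.conj_mem y hy x, fun hy => by
      simpa [mul_assoc] using MonoidHom.normal_ker π |>.conj_mem _ hy x⁻¹⟩
  obtain ⟨d, hd, hkd⟩ := Cfsg.Lib.Coprime.exists_fixed_in_coset hAD (by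
      obtain ⟨j, hj⟩ := (hPp.to_le inf_le_left : IsPGroup p D).exists_card_eq
      rw [hj]; exact hcop.pow_right j)
    (Or.inr (haveI := (hPp.to_le inf_le_left : IsPGroup p D).isNilpotent; inferInstance)) (k := k) (by
      intro a ha
      refine mem_inf.2 ⟨?_, ?_⟩
      · have := (mem_normalizer_iff.1 (hAH ha) k).1 hk
        simpa [mul_assoc] using mul_mem (inv_mem hk) this
      · rw [MonoidHom.mem_ker, map_mul, map_mul, map_mul, map_inv, map_inv, mul_assoc (π k)⁻¹ (π a),
          mem_center_iff.1 hkc (π a)]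
        group)
  have hkdP : k * d ∈ P := mul_mem hk (mem_inf.1 hd).1
  have hπkd : π (k * d) = π k := by rw [map_mul, MonoidHom.mem_ker.1 (mem_inf.1 hd).2, mul_one]
  refine hS (isSolvable_of_le hSA (isSolvable_map π (isSolvable_of_le ?_
    (hL (k * d) (hne _ (hπkd ▸ hk1)) (hord _ hkdP)))))
  intro a ha
  rw [mem_centralizer_singleton_iff]
  exact ((mem_centralizer_iff.1 hkd) a ha)

end Cfsg.Lib.AltSection
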