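import Cfsg.Agent.AltSection.Reduce
import Cfsg.Prelude.Def_LocalEven

/-!
# Alternating sections and solvable centralisers of `p`-elements
-/

namespace Cfsg.Lib.AltSection

open Subgroup

universe u

theorem Good'.of_injective {p : ℕ} {L M : Type*} [Group L] [Group M] (h : Good' p M) (f : L →* M)
    (hf : Function.Injective f) : Good' p L := by
  intro x hx ⟨k, hk⟩
  haveI := h (f x) (fun hh => hx (hf (by rw [hh, map_one]))) ⟨k, by rw [orderOf_injective f hf, hk]⟩
  refine Group.isSolvable_of_isSolvable_injective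
    (f := (f.comp (centralizer ({x} : Set L)).subtype).codRestrict (centralizer ({f x} : Set M)) fun g => ?_) ?_
  · rw [mem_centralizer_singleton_iff]
    show f g * f x = f x * f g
    rw [← map_mul, ← map_mul, mem_centralizer_singleton_iff.1 g.2]
  · intro a b hab
    exact Subtype.ext (hf (congrArg Subtype.val hab :))

/-- The embedding of alternating groups given by an embedding of the sets of points. -/
noncomputable def altEmb {m n : ℕ} (f : Fin m ↪ Fin n) : alternatingGroup (Fin m) →* alternatingGroup (Fin n) :=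
  ((Equiv.Perm.viaEmbeddingHom f).comp (alternatingGroup (Fin m)).subtype).codRestrict _ fun g => by
    rw [Equiv.Perm.mem_alternatingGroup]
    show Equiv.Perm.sign (Equiv.Perm.viaEmbedding g.1 f) = 1
    classical
    rw [Equiv.Perm.viaEmbedding, Equiv.Perm.sign_extendDomain]
    exact Equiv.Perm.mem_alternatingGroup.1 g.2

theorem altEmb_injective {m n : ℕ} (f : Fin m ↪ Fin n) : Function.Injective (altEmb f) := fun a b h =>
  Subtype.ext (Equiv.Perm.viaEmbeddingHom_injective f (congrArg Subtype.val h :))

theorem altEmb_commute {m k n : ℕ} (f : Fin m ↪ Fin n) (g : Fin k ↪ Fin n)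
    (hfg : ∀ i j, f i ≠ g j) (x : alternatingGroup (Fin m)) (y : alternatingGroup (Fin k)) :
    Commute (altEmb f x) (altEmb g y) := by
  refine Subtype.ext (Equiv.Perm.Disjoint.commute ?_)
  intro i
  by_cases hi : i ∈ Set.range f
  · right
    obtain ⟨a, rfl⟩ := hi
    exact Equiv.Perm.viaEmbedding_apply_of_notMem _ g _ (by rintro ⟨b, hb⟩; exact hfg a b hb.symm)
  · left
    exact Equiv.Perm.viaEmbedding_apply_of_notMem _ f i hi

/-- The case of a lift. -/
theorem not_good_of_lift {q n : ℕ} (hn : n = q + 5) {L : Type*} [Group L] [Finite L] (p : ℕ)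
    [hpf : Fact p.Prime] (hq : p ∣ Nat.card (alternatingGroup (Fin q))) (hL : Good' p L)
    (π : L →* alternatingGroup (Fin n)) (hπ : Function.Surjective π)
    (h : ¬ p ∣ Nat.card π.ker ∨ ¬ p ∣ 60) : False := by
  classical
  subst hn
  let fa : Fin q ↪ Fin (q + 5) := Fin.castAddEmb 5
  let fb : Fin 5 ↪ Fin (q + 5) := Fin.natAddEmb q
  have hne : ∀ i j, fa i ≠ fb j := fun i j hij => by
    have := congrArg Fin.val hij
    simp only [fa, fb, Fin.castAddEmb_apply, Fin.natAddEmb_apply, Fin.val_castAdd, Fin.val_natAdd] at this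
    omega
  obtain ⟨y, hy⟩ := exists_prime_orderOf_dvd_card' (G := alternatingGroup (Fin q)) p hq
  set t := altEmb fa y
  have ht : orderOf t = p := by rw [orderOf_injective _ (altEmb_injective fa), hy]
  set S : Subgroup (alternatingGroup (Fin (q + 5))) := (altEmb fb).range
  set U := S ⊔ zpowers t with hU
  have hS5 : Nat.card S = 60 := by
    rw [← Nat.card_congr (MonoidHom.ofInjective (altEmb_injective fb)).toEquiv, nat_card_alternatingGroup,
      Nat.card_fin]
    rfl
  have hSs : ¬ Group.IsSolvable S := by
    intro hs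
    haveI := hs
    haveI : Nontrivial (alternatingGroup (Fin 5)) :=
      alternatingGroup.nontrivial_of_three_le_card (by simp)
    haveI : Group.IsPerfect (alternatingGroup (Fin 5)) :=
      Group.isPerfect_def.2 (commutator_alternatingGroup_eq_top (by simp))
    exact Group.IsPerfect.not_isSolvable (alternatingGroup (Fin 5))
      (Group.isSolvable_of_isSolvable_injective (f := (altEmb fb).rangeRestrict) fun a b hab =>
        altEmb_injective fb (congrArg Subtype.val hab))
  have htU : t ∈ U := mem_sup_right (mem_zpowers t)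
  have htc : (⟨t, htU⟩ : U) ∈ center U := by
    refine mem_center_iff.2 fun u => Subtype.ext ?_
    have hle : U ≤ centralizer ({t} : Set _) := by
      refine sup_le ?_ (zpowers_le.2 (mem_centralizer_singleton_iff.2 rfl))
      rintro _ ⟨x, rfl⟩
      exact mem_centralizer_singleton_iff.2 (altEmb_commute fa fb hne y x).symm.eq
    exact mem_centralizer_singleton_iff.1 (hle u.2)
  have hSU : S ≤ U := le_sup_left
  refine not_good_of_central (L := U.comap π) (Q := U) p (hL.of_injective _ (U.comap π).subtype_injective)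
    (π.subgroupComap U) ?_ ⟨t, htU⟩ (by rw [Subgroup.orderOf_mk, ht]) htc (S.subgroupOf U) ?_ ?_ ?_
  · rintro ⟨u, hu⟩
    obtain ⟨x, rfl⟩ := hπ u
    exact ⟨⟨x, hu⟩, rfl⟩
  · intro hs
    haveI := hs
    exact hSs (Group.isSolvable_of_surjective (f := (subgroupOfEquivOfLe hSU).toMonoidHom)
      (subgroupOfEquivOfLe hSU).surjective)
  · refine map_injective U.subtype_injective ?_
    rw [Subgroup.map_sup, map_subgroupOf_eq_of_le hSU, MonoidHom.map_zpowers, ← MonoidHom.range_eq_map,
      range_subtype]
    rfl
  · refine h.imp (fun h1 h2 => h1 ?_) (fun h1 h2 => h1 ?_)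
    · refine h2.trans (dvd_of_eq (Nat.card_congr ?_))
      exact
        { toFun := fun x => ⟨x.1.1, congrArg Subtype.val x.2⟩
          invFun := fun x => ⟨⟨x.1, by show π x.1 ∈ U; rw [MonoidHom.mem_ker.1 x.2]; exact one_mem U⟩,
            Subtype.ext x.2⟩
          left_inv := fun x => rfl
          right_inv := fun x => rfl }
    · rw [← hS5, ← Nat.card_congr (subgroupOfEquivOfLe hSU).toEquiv]
      exact h2

/-- From a section `A_d` to a perfect cover of `A_n` all whose nontrivial `p`-elements have solvable centralisers. -/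
theorem reduce {G : Type u} [Group G] [Finite G] (p : ℕ) [Fact p.Prime]
    (h : ∀ x : G, x ∉ center G → (∃ k : ℕ, orderOf x = p ^ k) →
      Group.IsSolvable (centralizer ({x} : Set G)))
    {d n : ℕ} (hn : 5 ≤ n) (hnd : n ≤ d) (hinv : Cfsg.Involves (alternatingGroup (Fin d)) G) :
    ∃ (L : Type u) (_ : Group L) (_ : Finite L) (π : L →* alternatingGroup (Fin n)),
      Good' p L ∧ Function.Surjective π ∧ Group.IsNilpotent π.ker := by
  obtain ⟨K, R, _, ⟨e⟩⟩ := hinv
  let π0 : K →* alternatingGroup (Fin d) := e.toMonoidHom.comp (QuotientGroup.mk' (R.subgroupOf K))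
  have hπ0 : Function.Surjective π0 := e.surjective.comp (QuotientGroup.mk'_surjective _)
  set j := altEmb (Fin.castLEEmb hnd)
  let r := (MonoidHom.ofInjective (altEmb_injective (Fin.castLEEmb hnd)))
  let π1 : (j.range.comap π0) →* alternatingGroup (Fin n) :=
    r.symm.toMonoidHom.comp (π0.subgroupComap j.range)
  have hπ1 : Function.Surjective π1 := r.symm.surjective.comp fun u => by
    obtain ⟨x, hx⟩ := hπ0 u.1
    exact ⟨⟨x, by show π0 x ∈ j.range; rw [hx]; exact u.2⟩, Subtype.ext hx⟩
  have hcard : 5 ≤ Nat.card (Fin n) := by rwa [Nat.card_fin]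
  obtain ⟨L, hsur, hperf, hnil⟩ := exists_min_cover π1 hπ1
    (commutator_alternatingGroup_eq_top hcard)
  set π2 := π1.comp L.subtype
  let ι : L →* G := K.subtype.comp ((j.range.comap π0).subtype.comp L.subtype)
  have hι : Function.Injective ι :=
    K.subtype_injective.comp ((j.range.comap π0).subtype_injective.comp L.subtype_injective)
  have hLh : ∀ x : L, x ∉ center L → (∃ k : ℕ, orderOf x = p ^ k) →
      Group.IsSolvable (centralizer ({x} : Set L)) := by
    intro x hx hk
    haveI := h (ι x) (fun hc => hx (mem_center_iff.2 fun g => hι (by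
      rw [map_mul, map_mul]; exact mem_center_iff.1 hc (ι g))))
      (by rwa [orderOf_injective ι hι])
    refine Group.isSolvable_of_isSolvable_injective
      (f := (ι.comp (centralizer ({x} : Set L)).subtype).codRestrict (centralizer ({ι x} : Set G)) fun g => ?_) ?_
    · rw [mem_centralizer_singleton_iff]
      show ι g * ι x = ι x * ι g
      rw [← map_mul, ← map_mul, mem_centralizer_singleton_iff.1 g.2]
    · intro a b hab
      exact Subtype.ext (hι (congrArg Subtype.val hab :))
  have hZ : center L ≤ π2.ker := by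
    intro z hz
    have h1 : π2 z ∈ center (alternatingGroup (Fin n)) := mem_center_iff.2 fun q => by
      obtain ⟨g, rfl⟩ := hsur q
      rw [← map_mul, ← map_mul, mem_center_iff.1 hz g]
    rwa [alternatingGroup.center_eq_bot (by rw [Nat.card_fin]; omega), mem_bot] at h1
  refine ⟨L ⧸ center L, inferInstance, inferInstance, QuotientGroup.lift (center L) π2 hZ,
    good_quotient_center p hLh, ?_, ?_⟩
  · intro q
    obtain ⟨x, hx⟩ := hsur q
    exact ⟨QuotientGroup.mk x, hx⟩
  · haveI := hnil
    refine Group.nilpotent_of_surjective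
      (((QuotientGroup.mk' (center L)).comp π2.ker.subtype).codRestrict _ fun x => ?_) ?_
    · exact x.2
    · rintro ⟨y, hy⟩
      obtain ⟨x, rfl⟩ := QuotientGroup.mk_surjective y
      exact ⟨⟨x, hy⟩, rfl⟩

/-- The degree bound, given that modules of `A_n` in characteristic `p` have nonsolvable stabilisers. -/
theorem false_of_module {G : Type u} [Group G] [Finite G] (p : ℕ) [Fact p.Prime]
    (h : ∀ x : G, x ∉ center G → (∃ k : ℕ, orderOf x = p ^ k) →
      Group.IsSolvable (centralizer ({x} : Set G)))
    {q d n : ℕ} (hn : n = q + 5) (hnd : n ≤ d) (hq : p ∣ Nat.card (alternatingGroup (Fin q)))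
    (hinv : Cfsg.Involves (alternatingGroup (Fin d)) G)
    (hmod : ¬ p ∣ 60 ∨ ∀ (W : Type u) [AddCommGroup W] [Finite W] [Nontrivial W]
      (ρ : alternatingGroup (Fin n) →* AddMonoid.End W), (∀ x : W, p • x = 0) → NoFix ρ → False) : False := by
  obtain ⟨L, _, _, π, hL, hπ, hker⟩ := reduce p h (by omega) hnd hinv
  rcases hmod with h60 | hmod
  · exact not_good_of_lift hn p hq hL π hπ (Or.inr h60)
  by_cases hdvd : p ∣ Nat.card π.ker
  · obtain ⟨W, _, _, _, ρ, hc, hnf⟩ := exists_noFix p hL π hπ hker hdvd
    exact hmod W ρ hc hnf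
  · exact not_good_of_lift hn p hq hL π hπ (Or.inl hdvd)

end Cfsg.Lib.AltSection
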