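import Cfsg.Agent.AltSection.Check

/-!
# Modules of alternating groups without vectors fixed by nonsolvable subgroups
-/

namespace Cfsg.Lib.AltSection

/-- Powers of a coded permutation. -/
def powC (n a : ℕ) : ℕ → ℕ
  | 0 => idC n
  | k + 1 => mulC n (powC n a k) a

theorem codeA_pow {n : ℕ} (hn : n ≤ 16) (x : alternatingGroup (Fin n)) (k : ℕ) :
    codeA (x ^ k) = powC n (codeA x) k := by
  induction k with
  | zero => rw [pow_zero, codeA_one]; rfl
  | succ k ih => rw [pow_succ, codeA_mul hn, ih, powC]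

/-- No nonzero vector is fixed by a `(2,3,k)`-generated pair with `k` prime to `6`. -/
def NoFix {n : ℕ} {W : Type*} [AddCommGroup W] (ρ : alternatingGroup (Fin n) →* AddMonoid.End W) : Prop :=
  ∀ (k : ℕ) (a b : alternatingGroup (Fin n)), k.Coprime 6 → a ^ 2 = 1 → b ^ 3 = 1 → (a * b) ^ k = 1 →
    a ≠ 1 → ∀ x : W, ρ a x = x → ρ b x = x → x = 0

/-- A pair of coded elements generating a triangle quotient. -/
def okTriangle (n : ℕ) (s : ℕ × ℕ) : Bool :=
  (mulC n s.1 s.1 == idC n) && (powC n s.2 3 == idC n) && (s.1 != idC n) &&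
    ((powC n (mulC n s.1 s.2) 5 == idC n) || (powC n (mulC n s.1 s.2) 7 == idC n))

variable {n : ℕ} {W : Type*} [AddCommGroup W] {ρ : alternatingGroup (Fin n) →* AddMonoid.End W}

theorem NoFix.kill (hn : n ≤ 16) (h : NoFix ρ) {s : ℕ × ℕ} (h1 : Mem n s.1) (h2 : Mem n s.2)
    (hs : okTriangle n s = true) (x : W) (ha : act ρ s.1 x = x) (hb : act ρ s.2 x = x) : x = 0 := by
  obtain ⟨a, hca⟩ := h1
  obtain ⟨b, hcb⟩ := h2
  rw [← hca, act_codeA hn] at ha
  rw [← hcb, act_codeA hn] at hb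
  simp only [okTriangle, ← hca, ← hcb, Bool.and_eq_true, Bool.or_eq_true, beq_iff_eq, bne_iff_ne] at hs
  obtain ⟨⟨⟨e1, e2⟩, e3⟩, e4⟩ := hs
  have inj : ∀ y : alternatingGroup (Fin n), codeA y = idC n → y = 1 := fun y hy =>
    codeA_inj hn (hy.trans codeA_one.symm)
  have ha2 : a ^ 2 = 1 := inj _ (by rw [pow_two, codeA_mul hn]; exact e1)
  have hb3 : b ^ 3 = 1 := inj _ (by rw [codeA_pow hn]; exact e2)
  have hne : a ≠ 1 := fun hh => e3 (by rw [hh]; exact codeA_one)
  rcases e4 with e4 | e4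
  · exact h 5 a b (by norm_num) ha2 hb3 (inj _ (by rw [codeA_pow hn, codeA_mul hn]; exact e4)) hne x ha hb
  · exact h 7 a b (by norm_num) ha2 hb3 (inj _ (by rw [codeA_pow hn, codeA_mul hn]; exact e4)) hne x ha hb

theorem seedsKill_of_noFix (hn : n ≤ 16) (h : NoFix ρ) {seeds : List (ℕ × ℕ)}
    (hm : ∀ s ∈ seeds, Mem n s.1 ∧ Mem n s.2) (hs : seeds.all (okTriangle n) = true) :
    SeedsKill ρ seeds := by
  intro k hk
  rw [List.getD_eq_getElem seeds _ hk]
  have hmem := List.getElem_mem (l := seeds) hk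
  refine ⟨(hm _ hmem).1, (hm _ hmem).2, ?_⟩
  exact h.kill hn (hm _ hmem).1 (hm _ hmem).2 (List.all_eq_true.1 hs _ hmem)

theorem noFix_comp (h : NoFix ρ) (e : alternatingGroup (Fin n) ≃* alternatingGroup (Fin n)) :
    NoFix (ρ.comp e.toMonoidHom) := by
  intro k a b hk ha hb hab hne x hx hy
  refine h k (e a) (e b) hk (by rw [← map_pow, ha, map_one]) (by rw [← map_pow, hb, map_one])
    (by rw [← map_mul, ← map_pow, hab, map_one]) (fun hh => hne (e.injective (by rw [hh, map_one]))) x hx hy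

/-- A list of codes closed under left multiplication by generators, of exponent dividing `q`. -/
def okPList (n q : ℕ) (gens l : List ℕ) : Bool :=
  l.contains (idC n) && (gens.all fun g => l.all fun h => l.contains (mulC n g h)) &&
    l.all fun h => powC n h q == idC n

/-- An invariant nonzero finite vector group of exponent `p` contains a nonzero vector fixed by a
`p`-group of operators. -/
theorem exists_fixed_list {p e : ℕ} [Fact p.Prime] [Finite W] (hchar : ∀ x : W, p • x = 0)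
    (hn : n ≤ 16) {gens l : List ℕ} (hg : ∀ x ∈ gens, Mem n x) (hl : okPList n (p ^ e) gens l = true)
    {T : Tab} (hT : T.n = n) {par : BT} (hR : T.okReps gens par = true) (X : AddSubgroup W) (hX : X ≠ ⊥)
    (hinv : ∀ c ∈ gens, ∀ y ∈ X, act ρ c y ∈ X) :
    ∃ w : W, w ∈ X ∧ w ≠ 0 ∧ ∀ k, k < T.N → act ρ (T.rep k) w = w := by
  simp only [okPList, Bool.and_eq_true, List.contains_iff_mem, List.all_eq_true, beq_iff_eq] at hl
  obtain ⟨⟨h1, hcl⟩, hex⟩ := hl
  set S : Set (alternatingGroup (Fin n)) := {x | codeA x ∈ gens} with hS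
  let P : Subgroup (alternatingGroup (Fin n)) := Subgroup.closure S
  have hsub : ∀ g ∈ Submonoid.closure S, codeA g ∈ l := by
    intro g hg'
    induction hg' using Submonoid.closure_induction_left with
    | one => rw [codeA_one]; exact h1
    | mul_left x hx y _ ih => rw [codeA_mul hn]; exact hcl _ hx _ ih
  have hPS : ∀ g ∈ P, g ∈ Submonoid.closure S := by
    intro g hg'
    have h2 : g ∈ (Subgroup.closure S).toSubmonoid := hg'
    rwa [Subgroup.closure_toSubmonoid_of_finite] at h2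
  have hPg : IsPGroup p P := by
    intro g
    refine ⟨e, Subtype.ext (codeA_inj hn ?_)⟩
    rw [SubmonoidClass.coe_pow, codeA_pow hn, OneMemClass.coe_one, codeA_one]
    exact hex _ (hsub _ (hPS _ g.2))
  have hinvP : ∀ g : P, ∀ y ∈ X, ρ g.1 y ∈ X := by
    intro g
    have h2 : ∀ g ∈ Submonoid.closure S, ∀ y ∈ X, ρ g y ∈ X := by
      intro g hg'
      induction hg' using Submonoid.closure_induction_left with
      | one => intro y hy; rw [map_one]; exact hy
      | mul_left a ha b _ ih =>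
        intro y hy
        rw [map_mul]
        show ρ a (ρ b y) ∈ X
        rw [← act_codeA hn ρ a]
        exact hinv _ ha _ (ih y hy)
    exact h2 g.1 (hPS _ g.2)
  let _ : MulAction P X :=
    { smul := fun g x => ⟨ρ g.1 x.1, hinvP g x.1 x.2⟩
      one_smul := fun x => Subtype.ext (by show ρ 1 x.1 = x.1; rw [map_one]; rfl)
      mul_smul := fun g h x => Subtype.ext (by show ρ (g.1 * h.1) x.1 = _; rw [map_mul]; rfl) }
  obtain ⟨x, hx, hx0⟩ := X.ne_bot_iff_exists_ne_zero.1 hX |> fun ⟨x, hx⟩ =>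
    (⟨x.1, x.2, fun h => hx (Subtype.ext h)⟩ : ∃ x, x ∈ X ∧ x ≠ 0)
  have hdvd : p ∣ Nat.card X := by
    have ho : addOrderOf (⟨x, hx⟩ : X) = p :=
      addOrderOf_eq_prime (Subtype.ext (by rw [AddSubgroup.coe_nsmul]; exact hchar x))
        (fun h => hx0 (congrArg Subtype.val h))
    rw [← ho]
    exact addOrderOf_dvd_natCard _
  have h0 : (0 : X) ∈ MulAction.fixedPoints P X := fun g => Subtype.ext (map_zero (ρ g.1))
  obtain ⟨w, hw, hne⟩ := hPg.exists_fixed_point_of_prime_dvd_card_of_fixed_point X hdvd h0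
  refine ⟨w.1, w.2, fun h => hne.symm (Subtype.ext h), ?_⟩
  have key : ∀ k, k < T.N → ∃ g : P, codeA g.1 = T.rep k := by
    refine T.reps_induction (P := fun c => ∃ g : P, codeA g.1 = c) ⟨1, ?_⟩ ?_ ?_ hR
    · rw [hT]; exact codeA_one
    · rintro a b ⟨x, rfl⟩ ⟨y, rfl⟩
      exact ⟨x * y, by rw [hT]; exact codeA_mul hn x.1 y.1⟩
    · intro c hc
      obtain ⟨x, rfl⟩ := hg c hc
      exact ⟨⟨x, Subgroup.subset_closure hc⟩, rfl⟩
  intro k hk
  obtain ⟨g, hg'⟩ := key k hk
  rw [← hg', act_codeA hn]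
  exact congrArg Subtype.val (hw g)

end Cfsg.Lib.AltSection
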