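import Cfsg.Agent.AltSection.Gens

/-!
# Group-algebra operators in coset certificates
-/

namespace Cfsg.Lib.AltSection

/-- The code of a product of two transpositions. -/
def quadCode {n : ℕ} (q : Fin n × Fin n × Fin n × Fin n) : ℕ :=
  code (Equiv.swap q.1 q.2.1 * Equiv.swap q.2.2.1 q.2.2.2)

theorem mem_quads {n : ℕ} (quads : List (Fin n × Fin n × Fin n × Fin n))
    (h : (quads.all fun q => decide (q.1 ≠ q.2.1 ∧ q.2.2.1 ≠ q.2.2.2)) = true) :
    ∀ x ∈ quads.map quadCode, Mem n x := by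
  intro x hx
  obtain ⟨q, hq, rfl⟩ := List.mem_map.1 hx
  obtain ⟨h1, h2⟩ := of_decide_eq_true (List.all_eq_true.1 h q hq)
  exact ⟨⟨Equiv.swap q.1 q.2.1 * Equiv.swap q.2.2.1 q.2.2.2, by
    rw [Equiv.Perm.mem_alternatingGroup, map_mul, Equiv.Perm.sign_swap h1, Equiv.Perm.sign_swap h2]; rfl⟩, rfl⟩

/-- The image of a vector under a combination of coded elements. -/
def opV : List (ℕ × ℕ) → Vec → List (List (ℕ × ℕ)) → Vec
  | g :: o, v, ws :: wss => scaleV g.2 (imgV v ws) ++ opV o v wss
  | _, _, _ => []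

/-- Check of the witnesses of `opV`. -/
def Tab.okOp (T : Tab) : List (ℕ × ℕ) → Vec → List (List (ℕ × ℕ)) → Bool
  | [], _, [] => true
  | g :: o, v, ws :: wss => T.okImg g.1 v ws && T.okOp o v wss
  | _, _, _ => false

variable {W : Type*} [AddCommGroup W] {n : ℕ}

/-- The operator named by a combination of coded elements. -/
noncomputable def opE (ρ : alternatingGroup (Fin n) →* AddMonoid.End W) : List (ℕ × ℕ) → AddMonoid.End W
  | [] => 0
  | g :: o => g.2 • act ρ g.1 + opE ρ o

theorem opE_nil (ρ : alternatingGroup (Fin n) →* AddMonoid.End W) (x : W) : opE ρ [] x = 0 := rfl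

theorem opE_cons (ρ : alternatingGroup (Fin n) →* AddMonoid.End W) (g : ℕ × ℕ) (o : List (ℕ × ℕ)) (x : W) :
    opE ρ (g :: o) x = g.2 • act ρ g.1 x + opE ρ o x := rfl

/-- An element commuting with each term commutes with the operator. -/
theorem opE_comm (hn : n ≤ 16) (ρ : alternatingGroup (Fin n) →* AddMonoid.End W) {a : ℕ} (ha : Mem n a)
    (o : List (ℕ × ℕ)) (ho : ∀ g ∈ o, Mem n g.1)
    (h : (o.all fun g => mulC n a g.1 == mulC n g.1 a) = true) (x : W) :
    act ρ a (opE ρ o x) = opE ρ o (act ρ a x) := by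
  induction o with
  | nil => rw [opE_nil, opE_nil, map_zero]
  | cons g o ih =>
    simp only [List.all_cons, Bool.and_eq_true, beq_iff_eq] at h
    rw [opE_cons, opE_cons, map_add, map_nsmul, ih (fun g hg => ho g (List.mem_cons_of_mem _ hg)) h.2,
      ← act_mulC hn ρ ha (ho g List.mem_cons_self), h.1, act_mulC hn ρ (ho g List.mem_cons_self) ha]

theorem opE_opE_comm (hn : n ≤ 16) (ρ : alternatingGroup (Fin n) →* AddMonoid.End W)
    (o o' : List (ℕ × ℕ)) (ho : ∀ g ∈ o, Mem n g.1) (ho' : ∀ g ∈ o', Mem n g.1)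
    (h : (o.all fun a => o'.all fun g => mulC n a.1 g.1 == mulC n g.1 a.1) = true) (x : W) :
    opE ρ o (opE ρ o' x) = opE ρ o' (opE ρ o x) := by
  induction o with
  | nil => rw [opE_nil, opE_nil, map_zero]
  | cons a o ih =>
    simp only [List.all_cons, Bool.and_eq_true] at h
    rw [opE_cons, opE_cons, map_add, map_nsmul, ih (fun g hg => ho g (List.mem_cons_of_mem _ hg)) h.2,
      opE_comm hn ρ (ho a List.mem_cons_self) o' ho' h.1]

variable {T : Tab} {p : ℕ} {ρ : alternatingGroup (Fin T.n) →* AddMonoid.End W} {w : W}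

theorem Good.opE_val (G : Good T p ρ w) (o : List (ℕ × ℕ)) (ho : ∀ g ∈ o, Mem T.n g.1) (v : Vec)
    (wss : List (List (ℕ × ℕ))) (h : T.okOp o v wss = true) :
    opE ρ o (val T ρ w v) = val T ρ w (opV o v wss) := by
  induction o generalizing wss with
  | nil => cases wss <;> simp [opV, opE_nil]
  | cons g o ih =>
    cases wss with
    | nil => simp [Tab.okOp] at h
    | cons ws wss =>
      simp only [Tab.okOp, Bool.and_eq_true] at h
      rw [opE_cons, opV, val_append, val_scale, ← G.act_val (ho g List.mem_cons_self) v ws h.1,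
        ih (fun g hg => ho g (List.mem_cons_of_mem _ hg)) wss h.2]

theorem Good.val_single (G : Good T p ρ w) (i : ℕ) : val T ρ w [(i, 1)] = act ρ (T.rep i) w := by
  rw [val_cons, val_nil, add_zero, one_nsmul]

theorem Good.val_unit (G : Good T p ρ w) (h : T.rep 0 = idC T.n) : val T ρ w [(0, 1)] = w := by
  rw [G.val_single, h, ← codeA_one, act_codeA G.hn, map_one]
  rfl

/-- The standard way of producing a certified table. -/
theorem Good.mk' (T : Tab) (p : ℕ) (ρ : alternatingGroup (Fin T.n) →* AddMonoid.End W) (w : W)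
    (hn : T.n ≤ 16) (hreps : ∀ i, i < T.N → Mem T.n (T.rep i)) (H : Tab)
    (hH : ∀ i, i < H.N → Mem T.n (H.rep i)) (he : T.hs = (List.range H.N).map H.rep)
    (hfix : ∀ i, i < H.N → act ρ (H.rep i) w = w) (hc : ∀ x : W, p • x = 0) : Good T p ρ w := by
  have hl : T.hs.length = H.N := by rw [he, List.length_map, List.length_range]
  have hget : ∀ k, k < T.hs.length → T.hs.getD k 0 = H.rep k := by
    intro k hk
    rw [List.getD_eq_getElem _ _ hk]
    simp only [he, List.getElem_map, List.getElem_range]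
  exact ⟨hn, hreps, fun k hk => (hget k hk) ▸ hH k (by omega), fun k hk => (hget k hk) ▸ hfix k (by omega), hc⟩

/-- Fixed by the generators implies fixed by the generated table. -/
theorem fixed_of_gens {n : ℕ} (hn : n ≤ 16) (ρ : alternatingGroup (Fin n) →* AddMonoid.End W) {H : Tab}
    (hH : H.n = n) {gens : List ℕ} {par : BT} (hg : ∀ x ∈ gens, Mem n x) (h : H.okReps gens par = true) (w : W)
    (hw : ∀ x ∈ gens, act ρ x w = w) : ∀ i, i < H.N → Mem n (H.rep i) ∧ act ρ (H.rep i) w = w := by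
  refine H.reps_induction (P := fun c => Mem n c ∧ act ρ c w = w) ⟨?_, ?_⟩ ?_ (fun x hx => ⟨hg x hx, hw x hx⟩) h
  · rw [hH]; exact ⟨1, codeA_one⟩
  · rw [hH, show (codeF n fun i => i) = idC n from rfl, ← codeA_one, act_codeA hn, map_one]; rfl
  · rintro a b ⟨ha, ha'⟩ ⟨hb, hb'⟩
    rw [hH]
    exact ⟨ha.mul hn hb, by rw [act_mulC hn ρ ha hb, hb', ha']⟩

end Cfsg.Lib.AltSection
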