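import Cfsg.Agent.AltSection.Module
import Cfsg.Agent.AltSection.Lift
import Cfsg.Agent.Coprime.SolvableBasics

/-!
# Reduction to perfect groups with nilpotent kernel
-/

namespace Cfsg.Lib.AltSection

open Subgroup

universe u

theorem exists_p_part {L : Type*} [Group L] [Finite L] (p : ℕ) [hp : Fact p.Prime] {Z : Subgroup L}
    [Z.Normal] (x : L) (hx : x ∉ Z) (hk : ∃ k : ℕ, orderOf (QuotientGroup.mk x : L ⧸ Z) = p ^ k) :
    ∃ y : L, y ∉ Z ∧ (∃ k : ℕ, orderOf y = p ^ k) ∧
      zpowers (QuotientGroup.mk y : L ⧸ Z) = zpowers (QuotientGroup.mk x : L ⧸ Z) := by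
  obtain ⟨k, hk⟩ := hk
  obtain ⟨a, m, hm, hn⟩ := Nat.exists_eq_pow_mul_and_not_dvd (orderOf_pos x).ne' p hp.out.ne_one
  have hm0 : m ≠ 0 := fun h => hm (h ▸ dvd_zero p)
  have hy : orderOf (x ^ m) = p ^ a := by
    rw [orderOf_pow_of_dvd hm0 (hn ▸ dvd_mul_left m _), hn, Nat.mul_div_cancel _ (Nat.pos_of_ne_zero hm0)]
  have hcop : (orderOf (QuotientGroup.mk x : L ⧸ Z)).Coprime m := by
    rw [hk]; exact Nat.Coprime.pow_left k (hp.out.coprime_iff_not_dvd.2 hm)
  have hz : zpowers ((QuotientGroup.mk x : L ⧸ Z) ^ m) = zpowers (QuotientGroup.mk x : L ⧸ Z) := by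
    refine le_antisymm (zpowers_le.2 (pow_mem (mem_zpowers _) m)) ?_
    obtain ⟨j, hj⟩ := exists_pow_eq_self_of_coprime hcop.symm
    rw [zpowers_le]
    have h1 := pow_mem (mem_zpowers ((QuotientGroup.mk x : L ⧸ Z) ^ m)) j
    rwa [hj] at h1
  refine ⟨x ^ m, fun hmem => hx ?_, ⟨a, hy⟩, by rw [QuotientGroup.mk_pow]; exact hz⟩
  have h1 : ((QuotientGroup.mk x : L ⧸ Z) ^ m) = 1 := by
    rw [← QuotientGroup.mk_pow]; exact (QuotientGroup.eq_one_iff _).2 hmem
  rw [h1, zpowers_one_eq_bot, eq_comm, zpowers_eq_bot] at hz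
  exact (QuotientGroup.eq_one_iff _).1 hz

/-- Passing to the quotient by the centre. -/
theorem good_quotient_center {L : Type*} [Group L] [Finite L] (p : ℕ) [Fact p.Prime]
    (h : ∀ x : L, x ∉ center L → (∃ k : ℕ, orderOf x = p ^ k) →
      Group.IsSolvable (centralizer ({x} : Set L))) :
    Good' p (L ⧸ center L) := by
  intro X hX hXk
  obtain ⟨x, rfl⟩ := QuotientGroup.mk_surjective X
  have hx : x ∉ center L := fun hh => hX ((QuotientGroup.eq_one_iff _).2 hh)
  obtain ⟨y, hy, hyk, hz⟩ := exists_p_part p x hx hXk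
  set C' : Subgroup L := (centralizer ({(QuotientGroup.mk x : L ⧸ center L)} : Set (L ⧸ center L))).comap
    (QuotientGroup.mk' (center L)) with hC'
  have hcom : ∀ g : C', (g : L) * y * (g : L)⁻¹ * y⁻¹ ∈ center L := by
    intro g
    have h1 : Commute (QuotientGroup.mk (g : L) : L ⧸ center L) (QuotientGroup.mk x) :=
      mem_centralizer_singleton_iff.1 g.2
    obtain ⟨j, hj⟩ := mem_zpowers_iff.1 (hz ▸ mem_zpowers (QuotientGroup.mk y : L ⧸ center L))
    have h2 : Commute (QuotientGroup.mk (g : L) : L ⧸ center L) (QuotientGroup.mk y) :=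
      hj ▸ h1.zpow_right j
    rw [← QuotientGroup.eq_one_iff]
    simp only [QuotientGroup.mk_mul, QuotientGroup.mk_inv]
    rw [h2.eq, mul_inv_cancel_right, mul_inv_cancel]
  let f : C' →* center L :=
    { toFun := fun g => ⟨_, hcom g⟩
      map_one' := Subtype.ext (by simp)
      map_mul' := fun a b => by
        refine Subtype.ext ?_
        show ((a : L) * b) * y * ((a : L) * b)⁻¹ * y⁻¹ = (a * y * (a : L)⁻¹ * y⁻¹) * (b * y * (b : L)⁻¹ * y⁻¹)
        have hb := mem_center_iff.1 (hcom b) ((a : L))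
        calc ((a : L) * b) * y * ((a : L) * b)⁻¹ * y⁻¹
            = (a : L) * (b * y * (b : L)⁻¹ * y⁻¹) * (y * (a : L)⁻¹ * y⁻¹) := by group
          _ = (b * y * (b : L)⁻¹ * y⁻¹) * (a : L) * (y * (a : L)⁻¹ * y⁻¹) := by rw [hb]
          _ = (b * y * (b : L)⁻¹ * y⁻¹) * ((a : L) * y * (a : L)⁻¹ * y⁻¹) := by group
          _ = _ := by rw [mem_center_iff.1 (hcom b) ((a : L) * y * (a : L)⁻¹ * y⁻¹)] }
  have hker : Group.IsSolvable f.ker := by
    haveI := h y hy hyk
    refine Group.isSolvable_of_isSolvable_injective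
      (f := ((C'.subtype.comp f.ker.subtype).codRestrict (centralizer ({y} : Set L)) fun g => ?_)) ?_
    · rw [mem_centralizer_singleton_iff]
      have h1 : ((g : C') : L) * y * ((g : C') : L)⁻¹ * y⁻¹ = 1 := congrArg Subtype.val g.2
      calc ((g : C') : L) * y = (((g : C') : L) * y * ((g : C') : L)⁻¹ * y⁻¹) * y * ((g : C') : L) := by group
        _ = y * ((g : C') : L) := by rw [h1, one_mul]
    · intro a b hab
      exact Subtype.ext (Subtype.ext (congrArg Subtype.val hab :))
  haveI := hker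
  haveI : Group.IsSolvable (center L) := Group.isSolvable_of_comm fun a b => Subtype.ext (mem_center_iff.1 b.2 a)
  haveI : Group.IsSolvable C' := Group.isSolvable_of_ker_le_range f.ker.subtype f (by rw [range_subtype])
  exact Group.isSolvable_of_surjective
    (f := ((QuotientGroup.mk' (center L)).comp C'.subtype).codRestrict _ fun g => g.2)
    (by
      rintro ⟨Z, hZ⟩
      obtain ⟨z, rfl⟩ := QuotientGroup.mk_surjective Z
      exact ⟨⟨z, hZ⟩, rfl⟩)

/-- A minimal subgroup covering a perfect quotient is perfect with nilpotent kernel. -/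
theorem exists_min_cover {K Q : Type*} [Group K] [Finite K] [Group Q] (π : K →* Q)
    (hπ : Function.Surjective π) (hQ : commutator Q = ⊤) :
    ∃ L : Subgroup K, Function.Surjective (π.comp L.subtype) ∧ Group.IsPerfect L ∧
      Group.IsNilpotent (π.comp L.subtype).ker := by
  classical
  obtain ⟨L, hL, hmin⟩ := (Set.toFinite {M : Subgroup K | M.map π = ⊤}).exists_minimal
    ⟨⊤, map_top_of_surjective π hπ⟩
  have hsur : Function.Surjective (π.comp L.subtype) := by
    intro q
    obtain ⟨x, hx, rfl⟩ := mem_map.1 ((hL : L.map π = ⊤).symm ▸ mem_top q)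
    exact ⟨⟨x, hx⟩, rfl⟩
  have key : ∀ M : Subgroup L, M.map (π.comp L.subtype) = ⊤ → M = ⊤ := by
    intro M hM
    have h1 : (M.map L.subtype).map π = ⊤ := by rw [map_map]; exact hM
    have h2 : L ≤ M.map L.subtype := hmin h1 (map_subtype_le M)
    rw [eq_top_iff]
    intro x _
    obtain ⟨y, hy, hxy⟩ := mem_map.1 (h2 x.2)
    exact (Subtype.ext hxy : y = x) ▸ hy
  refine ⟨L, hsur, Group.isPerfect_def.2 (key _ ?_), ?_⟩
  · rw [commutator_def, map_commutator, map_top_of_surjective _ hsur, ← commutator_def, hQ]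
  · have hle : (π.comp L.subtype).ker ≤ frattini L := by
      refine le_iInf₂ fun M hM => ?_
      by_contra hcon
      have h1 : M ⊔ (π.comp L.subtype).ker = ⊤ :=
        hM.2 _ (lt_of_le_of_ne le_sup_left fun h => hcon (h ▸ le_sup_right))
      have h2 := congrArg (Subgroup.map (π.comp L.subtype)) h1
      rw [Subgroup.map_sup, (Subgroup.map_eq_bot_iff _).2 le_rfl, sup_bot_eq, map_top_of_surjective _ hsur] at h2
      exact hM.1 (key M h2)
    haveI := frattini_nilpotent (G := L)
    exact Group.nilpotent_of_mulEquiv (subgroupOfEquivOfLe hle)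

set_option maxHeartbeats 800000 in
/-- The final reduction: a perfect group over `A_n` all whose nontrivial `p`-elements have solvable
centralisers gives a module without fixed vectors. -/
theorem exists_noFix {n : ℕ} {L : Type u} [Group L] [Finite L] (p : ℕ) [hpf : Fact p.Prime]
    (hL : Good' p L) (π : L →* alternatingGroup (Fin n)) (hπ : Function.Surjective π)
    (hker : Group.IsNilpotent π.ker) (hp : p ∣ Nat.card π.ker) :
    ∃ (W : Type u) (_ : AddCommGroup W) (_ : Finite W) (_ : Nontrivial W)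
      (ρ : alternatingGroup (Fin n) →* AddMonoid.End W), (∀ x : W, p • x = 0) ∧ NoFix ρ := by
  classical
  set N := π.ker with hN
  haveI := hker
  haveI : N.Normal := MonoidHom.normal_ker π
  set Z : Subgroup L := (center N).map N.subtype with hZ
  haveI : Z.Normal := by
    constructor
    rintro x ⟨c, hc, rfl⟩ g
    refine ⟨⟨g * c * g⁻¹, Normal.conj_mem inferInstance _ c.2 g⟩, ?_, rfl⟩
    refine mem_center_iff.2 fun m => Subtype.ext ?_
    have h1 := congrArg Subtype.val
      (mem_center_iff.1 hc ⟨g⁻¹ * m * g, by simpa using Normal.conj_mem inferInstance (m : L) m.2 g⁻¹⟩)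
    simp only [Subgroup.coe_mul] at h1 ⊢
    calc (m : L) * (g * c * g⁻¹) = g * ((g⁻¹ * m * g) * c) * g⁻¹ := by group
      _ = g * (c * (g⁻¹ * m * g)) * g⁻¹ := by rw [h1]
      _ = g * c * g⁻¹ * m := by group
  have hZc : ∀ x ∈ Z, ∀ y ∈ Z, x * y = y * x := by
    rintro x ⟨a, ha, rfl⟩ y ⟨b, hb, rfl⟩
    exact congrArg Subtype.val (mem_center_iff.1 hb a)
  let W : Subgroup L :=
    { carrier := {x | x ∈ Z ∧ x ^ p = 1}
      one_mem' := ⟨one_mem _, one_pow _⟩
      mul_mem' := fun {a b} ha hb => ⟨mul_mem ha.1 hb.1, by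
        rw [(show Commute a b from hZc a ha.1 b hb.1).mul_pow, ha.2, hb.2, one_mul]⟩
      inv_mem' := fun {a} ha => ⟨inv_mem ha.1, by rw [inv_pow, ha.2, inv_one]⟩ }
  haveI : W.Normal := ⟨fun x hx g => ⟨Normal.conj_mem inferInstance _ hx.1 g, by
    rw [conj_pow, hx.2, mul_one, mul_inv_cancel]⟩⟩
  have hW : W ≠ ⊥ := by
    intro hbot
    have hne : ∀ x ∈ Z, x ^ p = 1 → x = 1 := fun x hx hxp =>
      mem_bot.1 (hbot ▸ (show x ∈ W from ⟨hx, hxp⟩))
    obtain ⟨x, hx⟩ := exists_prime_orderOf_dvd_card' (G := N) p hp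
    obtain ⟨P⟩ : Nonempty (Sylow p N) := inferInstance
    haveI : (P : Subgroup N).Normal := (Group.isNilpotent_of_finite_tfae.out 0 3 rfl rfl).1 hker p hpf P
    have hP0 : (P : Subgroup N) ≠ ⊥ := P.ne_bot_of_dvd_card hp
    obtain ⟨c, hc, hc1⟩ := (Subgroup.ne_bot_iff_exists_ne_one).1
      (Cfsg.Lib.Coprime.inf_center_ne_bot (P : Subgroup N) hP0) |> fun ⟨c, hc⟩ =>
        (⟨c.1, c.2, fun h => hc (Subtype.ext h)⟩ : ∃ c, c ∈ (P : Subgroup N) ⊓ center N ∧ c ≠ 1)
    obtain ⟨j, hj⟩ := IsPGroup.iff_orderOf.1 P.2 ⟨c, (mem_inf.1 hc).1⟩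
    rw [Subgroup.orderOf_mk] at hj
    have hj0 : j ≠ 0 := fun h => hc1 (orderOf_eq_one_iff.1 (by rw [hj, h, pow_zero]))
    have h1 : (c ^ (p ^ (j - 1))) ^ p = 1 := by
      rw [← pow_mul, ← pow_succ, Nat.sub_add_cancel (Nat.pos_of_ne_zero hj0), ← hj, pow_orderOf_eq_one]
    have h2 : ((c ^ (p ^ (j - 1)) : N) : L) = 1 := hne _
      ⟨_, pow_mem (mem_inf.1 hc).2 _, rfl⟩ (by rw [← Subgroup.coe_pow, h1]; rfl)
    have h3 : c ^ (p ^ (j - 1)) = 1 := Subtype.ext h2
    have h4 := orderOf_dvd_of_pow_eq_one h3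
    rw [hj, Nat.pow_dvd_pow_iff_le_right hpf.out.one_lt] at h4
    omega
  letI : CommGroup W := { (inferInstance : Group W) with mul_comm := fun a b => Subtype.ext (hZc a a.2.1 b b.2.1) }
  haveI : Nontrivial W := (Subgroup.nontrivial_iff_ne_bot W).2 hW
  let c : L → W → W := fun g w => ⟨g * (w : L) * g⁻¹, Normal.conj_mem inferInstance _ w.2 g⟩
  let φ : L →* AddMonoid.End (Additive W) :=
    { toFun := fun g => MonoidHom.toAdditive
        { toFun := c g
          map_one' := Subtype.ext (show g * (1 : L) * g⁻¹ = 1 by group)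
          map_mul' := fun v w => Subtype.ext (show g * ((v : L) * (w : L)) * g⁻¹ = g * (v : L) * g⁻¹ * (g * (w : L) * g⁻¹) by group) }
      map_one' := AddMonoidHom.ext fun w => congrArg Additive.ofMul
        (Subtype.ext (show (1 : L) * ((Additive.toMul w : W) : L) * 1⁻¹ = ((Additive.toMul w : W) : L) by group))
      map_mul' := fun g h => AddMonoidHom.ext fun w => congrArg Additive.ofMul
        (Subtype.ext (show g * h * ((Additive.toMul w : W) : L) * (g * h)⁻¹ =
          g * (h * ((Additive.toMul w : W) : L) * h⁻¹) * g⁻¹ by group)) }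
  have hφN : π.ker ≤ φ.ker := by
    intro g hg
    refine MonoidHom.mem_ker.2 ?_
    refine AddMonoidHom.ext fun w => ?_
    obtain ⟨a, ha, haw⟩ := mem_map.1 (Additive.toMul w).2.1
    refine congrArg Additive.ofMul (Subtype.ext ?_)
    show g * ((Additive.toMul w : W) : L) * g⁻¹ = _
    rw [← haw]
    have := congrArg Subtype.val (mem_center_iff.1 ha ⟨g, hg⟩)
    simp only [Subgroup.coe_mul] at this
    rw [show g * N.subtype a * g⁻¹ = g * (a : L) * g⁻¹ from rfl, this, mul_inv_cancel_right]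
    exact haw
  have hρ' : ∀ g h, π g = π h → φ g = φ h := by
    intro g h hgh
    have h1 : φ (g⁻¹ * h) = 1 := hφN (by rw [MonoidHom.mem_ker, map_mul, map_inv, hgh, inv_mul_cancel])
    calc φ g = φ g * φ (g⁻¹ * h) := by rw [h1, mul_one]
      _ = φ h := by rw [← map_mul, mul_inv_cancel_left]
  obtain ⟨ρ, hρ⟩ : ∃ ρ : alternatingGroup (Fin n) →* AddMonoid.End (Additive W), ∀ g, ρ (π g) = φ g :=
    ⟨{ toFun := fun x => φ (Function.surjInv hπ x)
       map_one' := (hρ' _ 1 (by rw [Function.surjInv_eq hπ, map_one])).trans (map_one φ)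
       map_mul' := fun x y => (hρ' _ (Function.surjInv hπ x * Function.surjInv hπ y)
         (by rw [Function.surjInv_eq hπ, map_mul, Function.surjInv_eq hπ, Function.surjInv_eq hπ])).trans
         (map_mul φ _ _) },
      fun g => hρ' _ _ (Function.surjInv_eq hπ (π g))⟩
  refine ⟨Additive W, inferInstance, inferInstance, inferInstance, ρ, fun x => ?_, ?_⟩
  · exact congrArg Additive.ofMul (Subtype.ext (show ((Additive.toMul x : W) : L) ^ p = 1 from (Additive.toMul x).2.2) :
      (Additive.toMul x : W) ^ p = 1)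
  intro k a b hk ha hb hab hne x hxa hxb
  by_contra hx
  set z : L := ((Additive.toMul x : W) : L) with hz
  have hz1 : z ≠ 1 := fun h => hx (congrArg Additive.ofMul (Subtype.ext h : (Additive.toMul x : W) = 1))
  have hzk : ∃ j : ℕ, orderOf z = p ^ j := by
    rcases (Nat.dvd_prime hpf.out).1 (orderOf_dvd_of_pow_eq_one (Additive.toMul x).2.2) with h | h
    · exact ⟨0, by rw [h, pow_zero]⟩
    · exact ⟨1, by rw [h, pow_one]⟩
  have hmem : ∀ c, ρ c x = x → c ∈ (centralizer ({z} : Set L)).map π := by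
    intro c hc
    obtain ⟨g, rfl⟩ := hπ c
    rw [hρ] at hc
    refine mem_map_of_mem π (mem_centralizer_singleton_iff.2 ?_)
    have h1 : g * z * g⁻¹ = z :=
      congrArg (fun w : Additive W => ((Additive.toMul w : W) : L)) hc
    exact mul_inv_eq_iff_eq_mul.1 h1
  have hS : Group.IsSolvable ((centralizer ({z} : Set L)).map π) := isSolvable_map π (hL z hz1 hzk)
  set S : Subgroup (alternatingGroup (Fin n)) := closure {a, b}
  haveI hSs : Group.IsSolvable S := isSolvable_of_le
    ((closure_le _).2 (Set.insert_subset (hmem a hxa) (Set.singleton_subset_iff.2 (hmem b hxb)))) hS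
  haveI : Nontrivial S := Subgroup.nontrivial_iff_ne_bot S |>.2 fun h =>
    hne (mem_bot.1 (h ▸ subset_closure (Set.mem_insert a _)))
  refine (fun hperf : Group.IsPerfect S => Group.IsPerfect.not_isSolvable S hSs) ?_
  constructor
  set a' : S := ⟨a, subset_closure (Set.mem_insert a _)⟩
  set b' : S := ⟨b, subset_closure (Set.mem_insert_of_mem a rfl)⟩
  have e1 : (Abelianization.of a') ^ 2 = 1 := by rw [← map_pow, show a' ^ 2 = 1 from Subtype.ext ha, map_one]
  have e2 : (Abelianization.of b') ^ 3 = 1 := by rw [← map_pow, show b' ^ 3 = 1 from Subtype.ext hb, map_one]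
  have e3 : (Abelianization.of a' * Abelianization.of b') ^ k = 1 := by
    rw [← map_mul, ← map_pow, show (a' * b') ^ k = 1 from Subtype.ext hab, map_one]
  have e4 : Abelianization.of a' * Abelianization.of b' = 1 := by
    have h6 : (Abelianization.of a' * Abelianization.of b') ^ 6 = 1 := by
      rw [mul_pow, show (6 : ℕ) = 2 * 3 from rfl, pow_mul, e1, one_pow, mul_comm 2 3, pow_mul, e2,
        one_pow, one_mul]
    rw [← orderOf_eq_one_iff]
    exact Nat.eq_one_of_dvd_one ((hk.gcd_eq_one) ▸ Nat.dvd_gcd (orderOf_dvd_of_pow_eq_one e3)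
      (orderOf_dvd_of_pow_eq_one h6))
  have e5 : Abelianization.of a' = 1 := by
    have h3 : (Abelianization.of a') ^ 3 = 1 := by
      have := eq_inv_of_mul_eq_one_left e4
      rw [this, inv_pow, e2, inv_one]
    calc Abelianization.of a' = (Abelianization.of a') ^ 3 * ((Abelianization.of a') ^ 2)⁻¹ := by group
      _ = 1 := by rw [h3, e1, inv_one, one_mul]
  have e6 : Abelianization.of b' = 1 := by rwa [e5, one_mul] at e4
  rw [← Abelianization.ker_of, eq_top_iff]
  intro g _
  have hg : g ∈ closure ({a', b'} : Set S) := by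
    have : closure ({a', b'} : Set S) = ⊤ := by
      rw [← closure_closure_coe_preimage (k := ({a, b} : Set _))]
      congr 1
      ext ⟨u, hu⟩
      exact or_congr ⟨fun h => congrArg Subtype.val h, fun h => Subtype.ext h⟩ ⟨fun h => congrArg Subtype.val h, fun h => Subtype.ext h⟩
    rw [this]; exact mem_top g
  exact ((closure_le _).2 (Set.insert_subset e5 (Set.singleton_subset_iff.2 e6))) hg

end Cfsg.Lib.AltSection
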